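import Cfsg.Agent.ThCent.CPD.FactsData
import Cfsg.Agent.ThCent.CPD.JustData
import Cfsg.Agent.ThCent.CPD.TableData
import Cfsg.Agent.CosetCert.CoxExtra
import Cfsg.Agent.CosetCert.Pack

/-! Generated: the certificate. -/

set_option maxRecDepth 100000

namespace Cfsg.Agent.ThCent.CPD

open Cfsg.Agent.CosetCert

noncomputable def data : Data where
  K := 6
  n := 1512
  M := 1520
  Nf := 4567
  nR := 17
  iv := fun x => if x = 2 then 3 else if x = 3 then 2 else if x = 4 then 5 else if x = 5 then 4 else x
  F := get48 factStore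
  J := getVar justStore
  E := get48 edgeStore
  L := get48 repStore
  P := get48 treeStore
  W := [
    [0, 0],
    [1, 1],
    [0, 1, 0, 1, 0, 1],
    [2, 2, 2, 2, 2, 2, 2],
    [2, 0, 2, 0],
    [1, 3, 1, 2, 3, 3, 3, 1, 2, 2, 2],
    [4, 4, 4],
    [5, 0, 4, 0],
    [5, 1, 4, 1],
    [5, 2, 4, 3, 3],
    [],
    [0, 0],
    [1, 1],
    [2, 3],
    [3, 2],
    [4, 5],
    [5, 4]]
  PW := fun k => Nat.land (Nat.shiftRight 0xa600000000000000c50000000000000064000000000000008300000000000000420000000000000021000000000000000000000000004214660000000000011446000000000000942600000000000014a5000c6311084188820000000000008c2300000000c6318c63000000000411044100000000000000420000000000000021 (Nat.mul 64 k)) 0xffffffffffffffff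
  powers := [
    ([0, 0], 1),
    ([1, 1], 1),
    ([0, 1, 0, 1, 0, 1], 1),
    ([2, 2, 2, 2, 2, 2, 2], 1),
    ([2, 0, 2, 0], 1),
    ([1, 3, 1, 2, 3, 3, 3, 1, 2, 2, 2], 1),
    ([4, 4, 4], 1),
    ([5, 0, 4, 0], 1),
    ([5, 1, 4, 1], 1),
    ([5, 2, 4, 3, 3], 1),
    ([], 1),
    ([0, 0], 1),
    ([1, 1], 1),
    ([2, 3], 1),
    ([3, 2], 1),
    ([4, 5], 1),
    ([5, 4], 1)]

/-- The relators. -/
def relWords : List (List (Fin 4 × Bool)) := [
    [(0, true), (0, true)],
    [(1, true), (1, true)],
    [(0, true), (1, true), (0, true), (1, true), (0, true), (1, true)],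
    [(2, true), (2, true), (2, true), (2, true), (2, true), (2, true), (2, true)],
    [(2, true), (0, true), (2, true), (0, true)],
    [(1, false), (2, false), (1, true), (2, true), (2, false), (2, false), (2, false), (1, false), (2, true), (2, true), (2, true)],
    [(3, true), (3, true), (3, true)],
    [(3, false), (0, false), (3, true), (0, true)],
    [(3, false), (1, false), (3, true), (1, true)],
    [(3, false), (2, true), (3, true), (2, false), (2, false)]]

/-- The generators of the subgroup. -/
def subWords : List (FreeGroup (Fin 4)) := []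

/-- The numbering of the generators. -/
def enc (b : Fin 4) : Nat := match b with
  | ⟨0, _⟩ => 0
  | ⟨1, _⟩ => 1
  | ⟨2, _⟩ => 2
  | ⟨_, _⟩ => 4

/-- The letter of a number. -/
def dec : Nat → Fin 4 × Bool
  | 0 => (0, true)
  | 1 => (1, true)
  | 2 => (2, true)
  | 3 => (2, false)
  | 4 => (3, true)
  | 5 => (3, false)
  | _ => (0, true)

end Cfsg.Agent.ThCent.CPD
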